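import Groth.Agent.GenFree.Basic

/-!
# Generic freeness of cokernels along a map of finite type algebras

If `N` is finite over a finite type `A`-algebra and `M'` is a finitely generated `A`-submodule,
then `N ⧸ M'` is generically free over the base.
-/

universe u v w

namespace Groth.Agent.GenFree

variable {R : Type u} [CommRing R] {M : Type v} [AddCommGroup M] [Module R M]

/-- Extensions of generically free modules are generically free. -/
lemma GFree.of_extension {f : R} {A B : Type v} [AddCommGroup A] [Module R A] [AddCommGroup B] [Module R B]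
    (g : A →ₗ[R] M) (p : M →ₗ[R] B) (hg : Function.Injective g) (hp : Function.Surjective p)
    (hgp : LinearMap.ker p = LinearMap.range g) (hA : GFree R f A) (hB : GFree R f B) : GFree R f M := by
  obtain ⟨ι, φ, hφ, hr⟩ := hA
  obtain ⟨κ, ψ, hψ, hs⟩ := hB
  let l : κ → M := fun i => Function.surjInv hp (ψ (Finsupp.single i 1))
  let L : (κ →₀ R) →ₗ[R] M := Finsupp.linearCombination R l
  have hL : ∀ c, p (L c) = ψ c := fun c =>
    LinearMap.congr_fun (f := p ∘ₗ L) (g := ψ)
      (Finsupp.lhom_ext' fun i => LinearMap.ext_ring (by simp [L, l, Function.surjInv_eq hp])) c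
  have hpg : ∀ a, p (g a) = 0 := fun a => by
    rw [← LinearMap.mem_ker, hgp]; exact ⟨a, rfl⟩
  let Φ : (ι ⊕ κ →₀ R) →ₗ[R] M :=
    ((g ∘ₗ φ).coprod L) ∘ₗ (Finsupp.sumFinsuppLEquivProdFinsupp R).toLinearMap
  refine ⟨ι ⊕ κ, Φ, ?_, fun m => ?_⟩
  · refine (injective_iff_map_eq_zero _).2 fun c hc => ?_
    apply (Finsupp.sumFinsuppLEquivProdFinsupp R).injective
    rw [map_zero]
    set d := Finsupp.sumFinsuppLEquivProdFinsupp R c with hd
    have hc' : g (φ d.1) + L d.2 = 0 := hc
    have h2 : d.2 = 0 := hψ (by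
      have := congrArg p hc'
      rwa [map_add, hpg, zero_add, hL, map_zero, ← ψ.map_zero] at this)
    rw [h2, map_zero, add_zero] at hc'
    have h1 : d.1 = 0 := hφ (hg (by rw [hc', map_zero, map_zero]))
    exact Prod.ext h1 h2
  · obtain ⟨k, c, hc⟩ := hs (p m)
    have : f ^ k • m - L c ∈ LinearMap.ker p := by
      rw [LinearMap.mem_ker, map_sub, map_smul, hL, hc, sub_self]
    rw [hgp] at this
    obtain ⟨a, ha⟩ := this
    obtain ⟨k', b, hb⟩ := hr a
    refine ⟨k' + k, (Finsupp.sumFinsuppLEquivProdFinsupp R).symm (b, f ^ k' • c), ?_⟩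
    show ((g ∘ₗ φ).coprod L) (Finsupp.sumFinsuppLEquivProdFinsupp R
      ((Finsupp.sumFinsuppLEquivProdFinsupp R).symm (b, f ^ k' • c))) = _
    rw [LinearEquiv.apply_symm_apply, LinearMap.coprod_apply, LinearMap.comp_apply, hb, map_smul, ha,
      map_smul, pow_add, mul_smul, smul_sub, sub_add_cancel]

/-- The inductive step for cokernels. -/
lemma exists_gfree_quotient_step {A : Type w} [CommRing A] [Algebra R A] [IsDomain R]
    {S : Type w} [CommRing S] [IsNoetherianRing S] [Algebra R S] [Algebra A S]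
    [Module S M] [Module A M] [IsScalarTower R S M] [IsScalarTower A S M] [IsScalarTower R A M]
    (x : M →ₗ[S] M) (M0 : Submodule S M) (hM0 : M0.FG) (htop : ⨆ i, M0.map (x ^ i) = ⊤)
    (M' : Submodule A M) (hM' : M'.FG)
    (hS : ∀ (N : Type v) [AddCommGroup N] [Module S N] [Module R N] [IsScalarTower R S N]
      [Module.Finite S N], ∃ f : R, f ≠ 0 ∧ GFree R f N)
    (hSA : ∀ (N : Type v) [AddCommGroup N] [Module S N] [Module A N] [Module R N] [IsScalarTower R S N]
      [IsScalarTower A S N] [IsScalarTower R A N] [Module.Finite S N] (N' : Submodule A N), N'.FG →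
        ∃ f : R, f ≠ 0 ∧ GFree R f (N ⧸ N')) :
    ∃ f : R, f ≠ 0 ∧ GFree R f (M ⧸ M') := by
  classical
  have : Module.Finite S M0 := Module.Finite.iff_fg.2 hM0
  let F : ℕ → Submodule S M := fun d => ⨆ i ∈ Finset.range d, M0.map (x ^ i)
  have hFmono : Monotone F := fun a b hab =>
    (biSup_mono fun i hi => Finset.mem_range.2 (lt_of_lt_of_le (Finset.mem_range.1 hi) hab) : F a ≤ F b)
  have hFtop : ∀ m, ∃ d, m ∈ F d := fun m => by
    have hm : m ∈ ⨆ i, M0.map (x ^ i) := htop ▸ Submodule.mem_top
    obtain ⟨t, ht⟩ := Submodule.mem_iSup_iff_exists_finset.1 hm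
    exact ⟨t.sup id + 1, (show (⨆ i ∈ t, M0.map (x ^ i)) ≤ F (t.sup id + 1) from biSup_mono fun i hi => by
      simp only [Finset.mem_range]; exact Nat.lt_succ_of_le (Finset.le_sup (f := id) hi)) ht⟩
  have hFsucc : ∀ d, F (d + 1) = F d ⊔ LinearMap.range ((x ^ d) ∘ₗ M0.subtype) := fun d => by
    simp only [F, LinearMap.range_comp, Submodule.range_subtype]
    rw [Finset.range_add_one, Finset.iSup_insert, sup_comm]
  have hFfg : ∀ d, (F d).FG := fun d => Submodule.fg_biSup _ _ fun i _ => hM0.map _
  obtain ⟨s, hs⟩ := hM'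
  choose dd hdd using hFtop
  let d0 := s.sup dd
  let G : Submodule S M := F d0
  have hM'G : M' ≤ G.restrictScalars A := by
    rw [← hs, Submodule.span_le]
    exact fun m hm => hFmono (Finset.le_sup hm) (hdd m)
  haveI : Module.Finite S G := Module.Finite.iff_fg.2 (hFfg d0)
  let N' : Submodule A G := M'.comap (G.subtype.restrictScalars A)
  have hN' : N'.FG := by
    refine Submodule.fg_of_fg_map_injective (G.subtype.restrictScalars A) G.subtype_injective ?_
    rw [Submodule.map_comap_eq_of_le (by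
      intro m hm
      exact ⟨⟨m, hM'G hm⟩, rfl⟩)]
    exact ⟨s, hs⟩
  obtain ⟨f1, hf1, hgf1⟩ := hSA G N' hN'
  -- the layers above `G`
  let π : M →ₗ[S] M ⧸ G := G.mkQ
  let e : ℕ → M0 →ₗ[S] M ⧸ G := fun d => π ∘ₗ (x ^ (d0 + d)) ∘ₗ M0.subtype
  let K : ℕ → Submodule S M0 := fun d => (F (d0 + d)).comap ((x ^ (d0 + d)) ∘ₗ M0.subtype)
  have hxF : ∀ d, (F d).map x ≤ F (d + 1) := by
    intro d
    simp only [F, Submodule.map_iSup]
    refine iSup₂_le fun i hi => ?_
    rw [← Submodule.map_comp]
    exact le_iSup₂_of_le (i + 1) (by simpa using hi) (le_of_eq (by rw [pow_succ']; rfl))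
  have hKmono : Monotone K := monotone_nat_of_le_succ fun d y hy => by
    have := hxF (d0 + d) (Submodule.mem_map_of_mem hy)
    show (x ^ (d0 + (d + 1))) (y : M) ∈ F (d0 + (d + 1))
    rw [← add_assoc, pow_succ']
    exact this
  obtain ⟨D, hD⟩ := monotone_stabilizes_iff_noetherian.2 (inferInstance : IsNoetherian S M0) ⟨K, hKmono⟩
  choose g hg0 hg using fun d => hS (M0 ⧸ K d)
  let f2 : R := ∏ d ∈ Finset.range (D + 1), g d
  have hall : ∀ d, GFree R f2 (M0 ⧸ (K d).restrictScalars R) := fun d => by
    have hd : ∀ d ≤ D, GFree R f2 (M0 ⧸ K d) := fun d hd =>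
      (hg d).of_dvd (Finset.dvd_prod_of_mem g (by simpa using Nat.lt_succ_of_le hd))
    rcases le_or_gt d D with h | h
    · exact hd d h
    · have hK : K D = K d := hD d h.le
      exact hK ▸ hd D le_rfl
  have hgf2 : ∃ (ι : Type v) (φ : (ι →₀ R) →ₗ[R] M ⧸ G), Function.Injective φ ∧
      ∀ m : M ⧸ G, ∃ k : ℕ, f2 ^ k • m ∈ LinearMap.range φ := by
    refine gfree_of_filtration (fun d => ((F (d0 + d)).map π).restrictScalars R) ?_ ?_ ?_
      (fun d => (e d).restrictScalars R) ?_ (fun d => (K d).restrictScalars R) ?_ hall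
    · show ((F (d0 + 0)).map π).restrictScalars R = ⊥
      rw [Submodule.restrictScalars_eq_bot_iff, Nat.add_zero]
      exact Submodule.mkQ_map_self G
    · intro d
      exact Submodule.map_mono (hFmono (by omega))
    · intro m
      obtain ⟨m, rfl⟩ := G.mkQ_surjective m
      exact ⟨dd m, m, hFmono (by omega) (hdd m), rfl⟩
    · intro d
      show ((F (d0 + (d + 1))).map π).restrictScalars R = _
      rw [show d0 + (d + 1) = d0 + d + 1 by omega, hFsucc, Submodule.map_sup,
        Submodule.restrictScalars_sup, LinearMap.range_restrictScalars]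
      simp only [e, LinearMap.range_comp]
    · intro d y
      show y ∈ K d ↔ π ((x ^ (d0 + d)) y) ∈ (F (d0 + d)).map π
      rw [← Submodule.mem_comap (f := π), Submodule.comap_map_eq, sup_of_le_left]
      · rfl
      · rw [Submodule.ker_mkQ]; exact hFmono (by omega)
  refine ⟨f1 * f2, mul_ne_zero hf1 (Finset.prod_ne_zero_iff.2 fun d _ => hg0 d), ?_⟩
  have h2 : GFree R (f1 * f2) (M ⧸ G) := GFree.of_dvd hgf2 (dvd_mul_left _ _)
  let ι' : (G ⧸ N') →ₗ[R] M ⧸ M' :=
    (N'.mapQ M' (G.subtype.restrictScalars A) le_rfl).restrictScalars R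
  let p : (M ⧸ M') →ₗ[R] M ⧸ G :=
    (M'.liftQ (G.mkQ.restrictScalars A) (by
      intro m hm
      rw [LinearMap.mem_ker]
      exact (Submodule.Quotient.mk_eq_zero G).2 (hM'G hm))).restrictScalars R
  refine GFree.of_extension ι' p ?_ ?_ ?_ (hgf1.of_dvd (dvd_mul_right _ _)) h2
  · rintro ⟨a⟩ ⟨b⟩ hab
    exact (Submodule.Quotient.eq N').2 ((Submodule.Quotient.eq M').1 hab)
  · rintro ⟨m⟩
    exact ⟨Submodule.Quotient.mk m, rfl⟩
  · ext q
    obtain ⟨m, rfl⟩ := M'.mkQ_surjective q
    constructor
    · intro hm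
      exact ⟨Submodule.Quotient.mk ⟨m, (Submodule.Quotient.mk_eq_zero G).1 hm⟩, rfl⟩
    · rintro ⟨a, ha⟩
      obtain ⟨a, rfl⟩ := N'.mkQ_surjective a
      show p _ = 0
      rw [← ha]
      exact (Submodule.Quotient.mk_eq_zero G).2 a.2

/-- Cokernels into modules over polynomial rings in finitely many variables. -/
theorem exists_gfree_quotient_mvPolynomial {A : Type w} [CommRing A] [IsDomain R] [IsNoetherianRing R]
    [Algebra R A] [Algebra.FiniteType R A] (n : ℕ) :
    ∀ (N : Type v) [AddCommGroup N] [Module (MvPolynomial (Fin n) A) N] [Module A N] [Module R N]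
      [IsScalarTower R (MvPolynomial (Fin n) A) N] [IsScalarTower A (MvPolynomial (Fin n) A) N]
      [IsScalarTower R A N] [Module.Finite (MvPolynomial (Fin n) A) N] (N' : Submodule A N), N'.FG →
        ∃ f : R, f ≠ 0 ∧ GFree R f (N ⧸ N') := by
  haveI : IsNoetherianRing A := Algebra.FiniteType.isNoetherianRing R A
  induction n with
  | zero =>
    intro N _ _ _ _ _ _ _ _ N' _
    have : Module.Finite A (MvPolynomial (Fin 0) A) :=
      Module.Finite.equiv (MvPolynomial.isEmptyAlgEquiv A (Fin 0)).toLinearEquiv.symm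
    have : Module.Finite A N := Module.Finite.trans (MvPolynomial (Fin 0) A) N
    exact exists_gfree A
  | succ n ih =>
    intro N _ _ _ _ _ _ _ _ N' hN'
    let ρ : MvPolynomial (Fin n) A →ₐ[A] MvPolynomial (Fin (n + 1)) A := MvPolynomial.rename Fin.succ
    let := Module.compHom N ρ.toRingHom
    have : IsScalarTower A (MvPolynomial (Fin n) A) N := ⟨fun r p m => by
      show ρ (r • p) • m = r • ρ p • m
      rw [map_smul, smul_assoc]⟩
    have : IsScalarTower R (MvPolynomial (Fin n) A) N := IsScalarTower.to₁₃₄ R A _ _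
    let x : N →ₗ[MvPolynomial (Fin n) A] N :=
      { toFun := fun m => (MvPolynomial.X 0 : MvPolynomial (Fin (n + 1)) A) • m
        map_add' := smul_add _
        map_smul' := fun p m => smul_comm _ (ρ p) m }
    obtain ⟨s, hs⟩ := Module.Finite.fg_top (R := MvPolynomial (Fin (n + 1)) A) (M := N)
    let M0 : Submodule (MvPolynomial (Fin n) A) N := Submodule.span _ (s : Set N)
    refine exists_gfree_quotient_step x M0 ⟨s, rfl⟩ ?_ N' hN'
      (fun P _ _ _ _ _ => exists_gfree (MvPolynomial (Fin n) A)) ih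
    set T := ⨆ i, M0.map (x ^ i)
    have hx : ∀ m ∈ T, x m ∈ T := by
      intro m hm
      refine (show T.map x ≤ T from ?_) (Submodule.mem_map_of_mem hm)
      rw [Submodule.map_iSup]
      refine iSup_le fun i => ?_
      rw [← Submodule.map_comp]
      exact le_iSup_of_le (i + 1) (le_of_eq (by rw [pow_succ']; rfl))
    have hmul : ∀ (p : MvPolynomial (Fin (n + 1)) A), ∀ m ∈ T, p • m ∈ T := by
      intro p
      induction p using MvPolynomial.induction_on with
      | C r =>
        intro m hm
        have : (MvPolynomial.C r : MvPolynomial (Fin (n + 1)) A) • m =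
            (MvPolynomial.C r : MvPolynomial (Fin n) A) • m :=
          congrArg (· • m) (MvPolynomial.rename_C _ r).symm
        exact this ▸ Submodule.smul_mem _ _ hm
      | add p q hp hq => intro m hm; rw [add_smul]; exact add_mem (hp m hm) (hq m hm)
      | mul_X p i hp =>
        intro m hm
        rw [mul_smul]
        refine hp _ ?_
        induction i using Fin.cases with
        | zero => exact hx m hm
        | succ i =>
          have : (MvPolynomial.X i.succ : MvPolynomial (Fin (n + 1)) A) • m =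
              (MvPolynomial.X i : MvPolynomial (Fin n) A) • m :=
            congrArg (· • m) (MvPolynomial.rename_X _ i).symm
          exact this ▸ Submodule.smul_mem _ _ hm
    let T' : Submodule (MvPolynomial (Fin (n + 1)) A) N :=
      { T.toAddSubmonoid with smul_mem' := hmul }
    rw [eq_top_iff]
    intro m _
    exact (show (⊤ : Submodule (MvPolynomial (Fin (n + 1)) A) N) ≤ T' from hs ▸ Submodule.span_le.2
      fun y hy => le_iSup (fun i => M0.map (x ^ i)) 0 ⟨y, Submodule.subset_span hy, rfl⟩)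
      (Submodule.mem_top (x := m))

end Groth.Agent.GenFree
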